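import Groth.Agent.FibDimLib.FieldExt
import Groth.Prelude.Def_CAlg
import Mathlib

set_option autoImplicit false
universe u

open CategoryTheory CategoryTheory.Limits AlgebraicGeometry

namespace Groth.Agent.DimFieldBCLib

theorem dim_pullback {k K : Type u} [Field k] [Field K] {X : Scheme.{u}}
    (f : X ⟶ Spec (CommRingCat.of k)) [LocallyOfFiniteType f]
    (q : Spec (CommRingCat.of K) ⟶ Spec (CommRingCat.of k)) :
    topologicalKrullDim ↥(pullback f q) = topologicalKrullDim ↥X := by
  haveI : Subsingleton ↥(Spec (CommRingCat.of K)) := inferInstanceAs (Subsingleton (PrimeSpectrum K))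
  haveI : Subsingleton ↥(Spec (CommRingCat.of k)) := inferInstanceAs (Subsingleton (PrimeSpectrum k))
  let z : ↥(Spec (CommRingCat.of K)) := IsLocalRing.closedPoint K
  let f' : pullback f q ⟶ Spec (CommRingCat.of K) := pullback.snd f q
  have hu : f' ⁻¹' {z} = Set.univ := Set.eq_univ_of_forall fun x => Subsingleton.elim (f' x) z
  have hu' : f ⁻¹' {q z} = Set.univ := Set.eq_univ_of_forall fun x => Subsingleton.elim (f x) (q z)
  let e : (f'.fiber z) ≃ₜ ↥(pullback f q) :=
    (f'.fiberHomeo z).trans ((Homeomorph.setCongr hu).trans (Homeomorph.Set.univ _))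
  let e' : (f.fiber (q z)) ≃ₜ ↥X :=
    (f.fiberHomeo (q z)).trans ((Homeomorph.setCongr hu').trans (Homeomorph.Set.univ _))
  exact ((IsHomeomorph.topologicalKrullDim_eq e e.isHomeomorph).symm.trans
    (FibDimLib.topologicalKrullDim_fiber_baseChange (IsPullback.of_hasPullback f q) z)).trans
      (IsHomeomorph.topologicalKrullDim_eq e' e'.isHomeomorph)

end Groth.Agent.DimFieldBCLib
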