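import Groth.Agent.DimFieldBCLib.Basic
import Groth.Agent.FibDimLib.FibreJumps
import Mathlib

set_option autoImplicit false
universe u

open CategoryTheory CategoryTheory.Limits AlgebraicGeometry

namespace Groth.Agent.DimFieldBCLib

theorem add_le_of_forall_nat {a b c : WithBot ℕ∞}
    (h : ∀ n m : ℕ, (n : WithBot ℕ∞) ≤ a → (m : WithBot ℕ∞) ≤ b → ((n + m : ℕ) : WithBot ℕ∞) ≤ c) : a + b ≤ c := by
  refine FibDimLib.le_of_forall_nat_le fun t ht => ?_
  induction a using WithBot.recBotCoe with
  | bot => simp at ht
  | coe a =>
    induction b using WithBot.recBotCoe with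
    | bot => simp at ht
    | coe b =>
      induction a using ENat.recTopCoe with
      | top => simpa using h t 0 le_top (by exact_mod_cast (zero_le : (0 : ℕ∞) ≤ b))
      | coe a =>
        induction b using ENat.recTopCoe with
        | top => simpa using h 0 t (by exact_mod_cast (zero_le : (0 : ℕ∞) ≤ a)) le_top
        | coe b =>
          refine le_trans ?_ (h a b le_rfl le_rfl)
          exact ht.trans (by push_cast; exact le_rfl)

variable {k : Type u} [Field k] {X Y : Scheme.{u}}

theorem dim_fibre_fst (f : X ⟶ Spec (CommRingCat.of k)) (g : Y ⟶ Spec (CommRingCat.of k))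
    [LocallyOfFiniteType g] (x : X) :
    topologicalKrullDim ↥((pullback.fst f g).fiber x) = topologicalKrullDim ↥Y := by
  haveI : Subsingleton ↥(Spec (CommRingCat.of k)) := inferInstanceAs (Subsingleton (PrimeSpectrum k))
  rw [FibDimLib.topologicalKrullDim_fiber_baseChange (IsPullback.of_hasPullback f g).flip x]
  have hu : g ⁻¹' {f x} = Set.univ := Set.eq_univ_of_forall fun y => Subsingleton.elim (g y) (f x)
  let e : (g.fiber (f x)) ≃ₜ ↥Y :=
    (g.fiberHomeo (f x)).trans ((Homeomorph.setCongr hu).trans (Homeomorph.Set.univ _))
  exact IsHomeomorph.topologicalKrullDim_eq e e.isHomeomorph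

theorem dim_prod (f : X ⟶ Spec (CommRingCat.of k)) (g : Y ⟶ Spec (CommRingCat.of k))
    [LocallyOfFiniteType f] [LocallyOfFiniteType g] :
    topologicalKrullDim ↥(pullback f g) = topologicalKrullDim ↥X + topologicalKrullDim ↥Y := by
  refine le_antisymm (FibDimLib.topologicalKrullDim_le_of_points fun z => ?_) ?_
  · rw [FibDimLib.topologicalKrullDim_closure_eq_add f (pullback.fst f g) z]
    exact add_le_add (topologicalKrullDim_subspace_le _ _)
      ((FibDimLib.fibreClosureDim_le_fiber _ z).trans_eq (dim_fibre_fst f g _))
  · refine add_le_of_forall_nat fun n m hn hm => ?_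
    obtain ⟨η, hη⟩ : ∃ η : X, (n : WithBot ℕ∞) ≤ topologicalKrullDim (closure ({η} : Set X)) := by
      rcases Nat.eq_zero_or_pos n with rfl | hpos
      · haveI : Nonempty X := by
          by_contra hne
          rw [not_nonempty_iff] at hne
          have : topologicalKrullDim X = ⊥ := le_bot_iff.mp (FibDimLib.topologicalKrullDim_le_of_generic fun z _ => isEmptyElim z)
          rw [this] at hn
          simp at hn
        obtain ⟨η⟩ := ‹Nonempty X›
        exact ⟨η, by
          haveI : Nonempty (TopologicalSpace.IrreducibleCloseds (closure ({η} : Set X))) :=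
            ⟨⟨closure {⟨η, subset_closure rfl⟩}, isIrreducible_singleton.closure, isClosed_closure⟩⟩
          rw [Nat.cast_zero]
          exact Order.krullDim_nonneg⟩
      · by_contra hall
        push Not at hall
        have h1 : topologicalKrullDim X ≤ ((n - 1 : ℕ) : WithBot ℕ∞) :=
          FibDimLib.topologicalKrullDim_le_of_points fun x => by
            refine FibDimLib.le_of_forall_nat_le fun j hj => ?_
            have := lt_of_le_of_lt hj (hall x)
            have : j < n := by exact_mod_cast this
            exact_mod_cast (show j ≤ n - 1 by omega)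
        have := hn.trans h1
        have : n ≤ n - 1 := by exact_mod_cast this
        omega
    obtain ⟨z, hz, hr⟩ := FibDimLib.exists_fibreDimAt_ge (pullback.fst f g) η (r := m)
      (hm.trans_eq (dim_fibre_fst f g η).symm)
    refine le_trans ?_ (topologicalKrullDim_subspace_le ↥(pullback f g) (closure {z}))
    rw [FibDimLib.topologicalKrullDim_closure_eq_add f (pullback.fst f g) z, hz]
    push_cast
    exact add_le_add hη hr

end Groth.Agent.DimFieldBCLib
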